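import Cfsg.Agent.H633.Unique
import Cfsg.Agent.S4483
import Cfsg.Agent.S0902
import Cfsg.Agent.H33.IM
import Cfsg.Agent.H316.HT.Defs
import Cfsg.Agent.Blocks.Local
import Cfsg.Agent.FastGrp
import Cfsg.Agent.Prune
set_option linter.all false

section
prune_inst 0x7f00000000000000000000000000000000000000000000000000000000000000000000000000000000000000000000000000000000000000000000000000000000000000000000000000000000000000003fffffffffffffffffffffffffffbeffbdffffffff

-- part: H133/PB/Basic
section
set_option linter.all false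
open scoped Cfsg.Agent.FastGrp

/-!
# Degrees divisible by `p` in principal `q`-blocks (helper133, for S4826)

* `BD p q G` : every principal `q`-block of `G` has a member of degree divisible by `p`.
* `Row p G` : `BD p q G` for some prime `q ≠ p` dividing the group order.
* `BD.of_sylow`, `BD.of_real` : two criteria.
-/

set_option autoImplicit false

open Cfsg

namespace Cfsg.Agent.H133.PB

open Cfsg.Agent.Characters.Core Cfsg.Agent.Blocks.Basic Cfsg.Agent.Blocks.Local

universe u v

/-- The principal `q`-block has a member of degree divisible by `p`. -/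
def BD (p q : ℕ) (G : Type u) [Group G] : Prop :=
  ∀ M : Ideal AlgInt, IsPModular q M →
    ∃ χ : IrrCharacter G, χ ∈ principalBlock M G ∧ p ∣ charDegree (χ : G → ℂ)

/-- For some prime `q ≠ p` dividing the group order, the principal `q`-block has a member of degree
divisible by `p`. -/
def Row (p : ℕ) (G : Type u) [Group G] : Prop :=
  ∃ q : ℕ, q.Prime ∧ q ≠ p ∧ q ∣ Nat.card G ∧ BD p q G

section

variable {p q : ℕ} {G : Type u} [Group G] {H : Type v} [Group H]

theorem Row.intro (hq : q.Prime) (hqp : q ≠ p) (hd : q ∣ Nat.card G) (h : BD p q G) : Row p G :=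
  ⟨q, hq, hqp, hd, h⟩

/-- Membership in the principal block from the surjective image. -/
theorem mem_principalBlock_comp {M : Ideal AlgInt} [M.IsPrime] (f : G →* H)
    (hf : Function.Surjective f) {χ : IrrCharacter H} (h : χ ∈ principalBlock M H) :
    (⟨(χ : H → ℂ) ∘ f, isIrr_comp f hf χ.2⟩ : IrrCharacter G) ∈ principalBlock M G := by
  -- pull back to `G ⧸ ker f`
  let e : G ⧸ f.ker ≃* H := QuotientGroup.quotientKerEquivOfSurjective f hf
  have hce : ∀ (ψ : H → ℂ) (x : G ⧸ f.ker), centralChar (ψ ∘ e) x = centralChar ψ (e x) := by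
    intro ψ x
    unfold centralChar
    rw [Function.comp_apply, Function.comp_apply, map_one]
    congr 3
    have h1 : (Subgroup.centralizer ({x} : Set (G ⧸ f.ker))) =
        (Subgroup.centralizer ({e x} : Set H)).comap e.toMonoidHom := by
      ext y
      rw [Subgroup.mem_centralizer_singleton_iff, Subgroup.mem_comap,
        Subgroup.mem_centralizer_singleton_iff]
      constructor
      · intro h
        have h2 := congrArg e h
        rw [map_mul, map_mul] at h2
        exact h2
      · intro h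
        apply e.injective
        rw [map_mul, map_mul]
        exact h
    rw [h1]
    exact Subgroup.index_comap_of_surjective _ e.surjective
  have h1 : (⟨(χ : H → ℂ) ∘ e, isIrr_comp e.toMonoidHom e.surjective χ.2⟩ : IrrCharacter (G ⧸ f.ker)) ∈
      principalBlock M (G ⧸ f.ker) := by
    intro x
    have h2 := hce (fun _ : H => (1 : ℂ)) x
    have h3 : ((fun _ : H => (1 : ℂ)) ∘ e) = (fun _ : G ⧸ f.ker => (1 : ℂ)) := rfl
    rw [h3] at h2
    have h4 := h (e x)
    rw [h2]
    have h5 := hce (χ : H → ℂ) x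
    show MemLocalIdeal M (_ - centralChar ((χ : H → ℂ) ∘ e) x)
    rw [h5]
    exact h4
  have h2 := H633.Principal.inflate_mem f.ker h1
  have h3 : (⟨(χ : H → ℂ) ∘ f, isIrr_comp f hf χ.2⟩ : IrrCharacter G) =
      H633.Principal.infl f.ker ⟨(χ : H → ℂ) ∘ e, isIrr_comp e.toMonoidHom e.surjective χ.2⟩ :=
    Subtype.ext (funext fun g => by
      show (χ : H → ℂ) (f g) = (χ : H → ℂ) (e (g : G ⧸ f.ker))
      rfl)
  rw [h3]
  exact h2

theorem BD.of_surjective (f : G →* H) (hf : Function.Surjective f) (h : BD p q H) : BD p q G := by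
  intro M hM
  have hMp : M.IsPrime := isPrime_of_isPModular hM
  obtain ⟨χ, hχ, hd⟩ := h M hM
  refine ⟨⟨(χ : H → ℂ) ∘ f, isIrr_comp f hf χ.2⟩, mem_principalBlock_comp f hf hχ, ?_⟩
  have h2 : charDegree ((χ : H → ℂ) ∘ f) = charDegree (χ : H → ℂ) := by
    unfold charDegree
    rw [Function.comp_apply, map_one]
  show p ∣ charDegree ((χ : H → ℂ) ∘ f)
  rwa [h2]

theorem BD.of_equiv (e : G ≃* H) (h : BD p q H) : BD p q G :=
  h.of_surjective e.toMonoidHom e.surjective

theorem Row.of_equiv (e : G ≃* H) (h : Row p H) : Row p G := by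
  obtain ⟨q, h1, h2, h3, h4⟩ := h
  exact ⟨q, h1, h2, by rwa [Nat.card_congr e.toEquiv], h4.of_equiv e⟩

/-- One maximal ideal suffices. -/
theorem BD.of_one [Finite G] [Fact q.Prime] {M : Ideal AlgInt} (hM : IsPModular q M)
    {χ : IrrCharacter G} (h : χ ∈ principalBlock M G) (hd : p ∣ charDegree (χ : G → ℂ)) :
    BD p q G := by
  intro M' hM'
  have hMp : M.IsPrime := isPrime_of_isPModular hM
  have hMp' : M'.IsPrime := isPrime_of_isPModular hM'
  refine ⟨χ, ?_, hd⟩
  intro g
  obtain ⟨r, hr, hr2⟩ := S0902.result q M hM ⟨_, isIrrCharacter_one⟩ χ h M' hM' g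
  have h1 : MemLocalIdeal M' (r : ℂ) := memLocalIdeal_of_mem hr
  rw [hr2] at h1
  exact h1

/-- If the centralizer of a Sylow `q`-subgroup is a `q`-group, a character of degree divisible by
`p` but not by `q` is enough. -/
theorem BD.of_sylow [Finite G] [Fact q.Prime] (Q : Sylow q G)
    (hC : IsPGroup q (Subgroup.centralizer ((Q : Subgroup G) : Set G)))
    (χ : IrrCharacter G) (hq : ¬ q ∣ charDegree (χ : G → ℂ)) (hp : p ∣ charDegree (χ : G → ℂ)) :
    BD p q G :=
  fun _ hM => ⟨χ, H633.Unique.mem_of_centralizer hM Q hC χ hq, hp⟩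

/-- A real character of odd degree divisible by `p` is in the principal `2`-block. -/
theorem BD.of_real [Finite G] (χ : IrrCharacter G) (hr : ∀ g : G, ((χ : G → ℂ) g).im = 0)
    (ho : Odd (charDegree (χ : G → ℂ))) (hp : p ∣ charDegree (χ : G → ℂ)) : BD p 2 G :=
  fun M hM => ⟨χ, (S4483.result M hM).1 χ hr ho, hp⟩

/-- Self-centralizing subgroup of prime order. -/
theorem isPGroup_centralizer_sylow [Finite G] [Fact q.Prime] {g : G}
    (hg : IsPGroup q (Subgroup.centralizer ({g} : Set G))) (hgq : ∃ k : ℕ, orderOf g = q ^ k) :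
    ∃ Q : Sylow q G, IsPGroup q (Subgroup.centralizer ((Q : Subgroup G) : Set G)) := by
  obtain ⟨k, hk⟩ := hgq
  have h1 : IsPGroup q (Subgroup.zpowers g) := by
    apply IsPGroup.of_card (n := k)
    rw [Nat.card_zpowers, hk]
  obtain ⟨Q, hQ⟩ := h1.exists_le_sylow
  refine ⟨Q, hg.to_le ?_⟩
  apply Subgroup.centralizer_le
  rw [Set.singleton_subset_iff]
  exact hQ (Subgroup.mem_zpowers g)

end

end Cfsg.Agent.H133.PB
end

-- part: H825/HT/Tools
section
set_option linter.all false
open scoped Cfsg.Agent.FastGrp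

/-!
# Tools for the rows of S4933 (helper825)

* `mem_of_table` : membership in the principal block from a table of values and the lengths of the classes;
* `rowIn_of`     : `RowIn p S` from a member of the principal block of a group isomorphic to `S`;
* `rowOut_of`    : `RowOut p S` is vacuous when the automorphisms of `p`-power order are inner.
-/

set_option autoImplicit false

namespace Cfsg.Agent.H825.HT

open Cfsg Subgroup Cfsg.Agent.Characters.Core Cfsg.Agent.H316.HT

universe u v

/-- an integer divisible by `p` lies in the local ideal -/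
theorem memLocalIdeal_int {p : ℕ} {M : Ideal AlgInt} (hM : IsPModular p M) (q : ℤ) :
    MemLocalIdeal M (((p : ℤ) * q : ℤ) : ℂ) := by
  have h1 := Cfsg.Agent.Blocks.LocalRing.memLocalIdeal_mul_left hM
    (Cfsg.Agent.Blocks.LocalRing.memLocalRing_of_isIntegral hM (isIntegral_algebraMap (R := ℤ) (A := ℂ) (x := q)))
    ((Cfsg.Agent.Blocks.LocalRing.memLocalIdeal_natCast_iff hM (n := p)).2 dvd_rfl)
  have h2 : ((p : ℤ) * q : ℤ) = ((q : ℤ) : ℂ) * (p : ℂ) := by
    push_cast
    ring
  rw [h2]
  exact h1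

/-- **membership in the principal block from a table** -/
theorem mem_of_table {G : Type u} [Group G] {p : ℕ} {M : Ideal AlgInt} (hM : IsPModular p M) (χ : IrrCharacter G)
    {d : ℤ} (hd : (χ : G → ℂ) 1 = d) {ι : Type v} (x : ι → G) (hx : ∀ g, ∃ i, IsConj (x i) g) (s : ι → ℕ) (v : ι → ℤ)
    (hs : ∀ i, (centralizer ({x i} : Set G)).index = s i) (hv : ∀ i, (χ : G → ℂ) (x i) = v i)
    (h : ∀ i, ((p : ℤ) * d) ∣ (s i : ℤ) * (v i - d)) : χ ∈ principalBlock M G := by
  intro g
  obtain ⟨i, hi⟩ := hx g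
  obtain ⟨q, hq⟩ := h i
  have hd0 : (d : ℂ) ≠ 0 := by
    rw [← hd]
    exact Cfsg.Agent.Blocks.Basic.irr_one_ne_zero χ.2
  have h1 : (centralizer ({g} : Set G)).index = s i := by
    rw [← hs i, Cfsg.Agent.Blocks.Basic.index_centralizer_isConj hi]
  have h2 : (χ : G → ℂ) g = v i := by
    rw [← hv i, Cfsg.Agent.Blocks.Basic.irr_isConj χ.2 hi]
  have h3 : centralChar (fun _ : G => (1 : ℂ)) g - centralChar (χ : G → ℂ) g = (((p : ℤ) * (-q) : ℤ) : ℂ) := by
    have h4 := congrArg (fun z : ℤ => (z : ℂ)) hq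
    push_cast at h4
    rw [centralChar, centralChar, h1, h2, hd]
    push_cast
    field_simp
    linear_combination -h4
  rw [h3]
  exact memLocalIdeal_int hM (-q)

/-- transport of a member of the principal block -/
theorem rowIn_of {S : Type u} [Group S] {T : Type v} [Group T] {p : ℕ} (e : S ≃* T)
    (h : ∀ M : Ideal AlgInt, IsPModular p M → ∃ χ : IrrCharacter T, χ ∈ principalBlock M T ∧
      (charDegree (χ : T → ℂ)).factorization p = 1) : RowIn p S := by
  intro M hM P a ha _
  have : M.IsPrime := Cfsg.Agent.Blocks.Local.isPrime_of_isPModular hM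
  obtain ⟨χ, h1, h2⟩ := h M hM
  refine ⟨_, Cfsg.Agent.H133.PB.mem_principalBlock_comp e.toMonoidHom e.surjective h1, ?_⟩
  have h3 : vd p ((χ : T → ℂ) ∘ e.toMonoidHom) = 1 := by
    rw [← h2]
    unfold vd charDegree
    rw [Function.comp_apply, map_one]
  show 0 < vd p ((χ : T → ℂ) ∘ e.toMonoidHom) ∧ vd p ((χ : T → ℂ) ∘ e.toMonoidHom) ≤ a
  rw [h3]
  exact ⟨one_pos, ha⟩

/-- **no outer `p`-automorphisms** -/
theorem le_of_inner {p : ℕ} {A : Type u} [Group A] [Finite A] (N : Subgroup A) [N.Normal]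
    (hC : centralizer (N : Set A) = ⊥) (P : Subgroup A) (hP : IsPGroup p P)
    (hin : ∀ (a : MulAut N) (k : ℕ), a ^ p ^ k = 1 → a ∈ (MulAut.conj : N →* MulAut N).range) : P ≤ N := by
  intro x hx
  obtain ⟨k, hk⟩ := hP ⟨x, hx⟩
  have hk' : x ^ p ^ k = 1 := congrArg Subtype.val hk
  obtain ⟨n, hn⟩ := hin (MulAut.conjNormal (H := N) x) k (by rw [← map_pow, hk', map_one])
  have h1 : (n : A)⁻¹ * x ∈ centralizer (N : Set A) := by
    rw [mem_centralizer_iff]
    intro y hy
    have h2 := congrArg (fun f : MulAut N => ((f ⟨y, hy⟩ : N) : A)) hn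
    simp only [MulAut.conj_apply, MulAut.conjNormal_apply, Subgroup.coe_mul, InvMemClass.coe_inv] at h2
    have h3 : (n : A) * y * (n : A)⁻¹ = x * y * x⁻¹ := h2
    calc y * ((n : A)⁻¹ * x) = (n : A)⁻¹ * ((n : A) * y * (n : A)⁻¹) * x := by group
      _ = (n : A)⁻¹ * (x * y * x⁻¹) * x := by rw [h3]
      _ = (n : A)⁻¹ * x * y := by group
  rw [hC, mem_bot] at h1
  have h2 : x = (n : A) := by
    rw [inv_mul_eq_one] at h1
    exact h1.symm
  rw [h2]
  exact n.2

theorem rowOut_of {S : Type v} [Group S] {p : ℕ}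
    (hin : ∀ (N : Type) [Group N], Nonempty (N ≃* S) → ∀ (a : MulAut N) (k : ℕ), a ^ p ^ k = 1 →
      a ∈ (MulAut.conj : N →* MulAut N).range) : RowOut p S := by
  intro A _ _ N _ e hC M hM P a ha _ hP
  exact absurd (le_of_inner N hC P P.isPGroup' (hin N e)) hP

end Cfsg.Agent.H825.HT
end
end
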